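import Groth.Agent.DegStratField.Main
import Groth.Agent.UnivFinOpen.Core
import Groth.Agent.FittLib.BaseChange
import Groth.Agent.S6892
import Mathlib.RingTheory.Ideal.IdempotentFG

/-!
# Strata of constant degree are retrocompact
-/

set_option autoImplicit false
set_option linter.style.haveILetI false
set_option maxHeartbeats 1000000
set_option synthInstance.maxHeartbeats 200000
set_option backward.isDefEq.respectTransparency false

universe u

open CategoryTheory Limits AlgebraicGeometry TopologicalSpace TensorProduct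

noncomputable section

namespace Groth.Agent.DegStratField

section Field

variable {K C : Type u} [Field K] [CommRing C] [Algebra K C] [Module.Finite K C]

theorem exists_stable (J : Ideal C) (n : ℕ) (hn : Module.finrank K C ≤ n) : IsIdempotentElem (J ^ n) := by
  haveI : IsArtinianRing C := IsArtinianRing.of_finite K C
  have hex : ∃ k ≤ n, J ^ k = J ^ (k + 1) := by
    by_contra h
    push Not at h
    have hlt : ∀ k ≤ n + 1, Module.finrank K ((J ^ k).restrictScalars K) + k ≤ Module.finrank K C := by
      intro k hk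
      induction k with
      | zero => simpa using Submodule.finrank_le _
      | succ k ih =>
        have h1 : (J ^ (k + 1)).restrictScalars K < (J ^ k).restrictScalars K := by
          refine lt_of_le_of_ne (Submodule.restrictScalars_mono K (Ideal.pow_le_pow_right k.le_succ)) ?_
          intro he
          exact h k (by omega) (Submodule.restrictScalars_injective K C C he).symm
        have h2 := Submodule.finrank_lt_finrank_of_lt h1
        have := ih (by omega)
        omega
    have := hlt (n + 1) le_rfl
    omega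
  obtain ⟨k, hk, hkk⟩ := hex
  have hstab : ∀ m, k ≤ m → J ^ m = J ^ k := by
    intro m hm
    induction m, hm using Nat.le_induction with
    | base => rfl
    | succ m _ ih => rw [pow_succ, ih, ← pow_succ, ← hkk]
  show J ^ n * J ^ n = J ^ n
  rw [← pow_add, hstab n hk, hstab (n + n) (by omega)]

/-- The rank of the open complement of a closed subset of a finite scheme. -/
theorem rk_compl (J : Ideal C) (n : ℕ) (hn : Module.finrank K C ≤ n) (hn0 : n ≠ 0) {P : Scheme.{u}}
    (m : P ⟶ Spec (CommRingCat.of C)) [IsOpenImmersion m]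
    (hm : Set.range m = (PrimeSpectrum.zeroLocus (J : Set C))ᶜ) :
    ∃ r : ℕ, rk (m ≫ Spec.map (CommRingCat.ofHom (algebraMap K C))) = (r : Cardinal.{u}) ∧
      r + Module.finrank K (C ⧸ J ^ n) = Module.finrank K C := by
  haveI : IsArtinianRing C := IsArtinianRing.of_finite K C
  obtain ⟨e, he, heJ⟩ := (Ideal.isIdempotentElem_iff_of_fg _ (IsNoetherian.noetherian (J ^ n))).mp
    (exists_stable J n hn)
  let S := C ⧸ Ideal.span {1 - e}
  haveI : IsLocalization.Away e S := IsLocalization.Away.quotient_of_isIdempotentElem he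
  let g := Spec.map (CommRingCat.ofHom (algebraMap C S))
  haveI : IsOpenImmersion g := IsOpenImmersion.of_isLocalization e
  have hr : Set.range m = Set.range g := by
    rw [hm]
    refine Eq.trans ?_ (PrimeSpectrum.localization_away_comap_range S e).symm
    rw [PrimeSpectrum.basicOpen_eq_zeroLocus_compl, compl_inj_iff, ← PrimeSpectrum.zeroLocus_span {e},
      show Ideal.span {e} = J ^ n from heJ.symm, PrimeSpectrum.zeroLocus_pow J hn0]
  let ε := IsOpenImmersion.isoOfRangeEq m g hr
  have h1 : m ≫ Spec.map (CommRingCat.ofHom (algebraMap K C)) =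
      ε.hom ≫ Spec.map (CommRingCat.ofHom (algebraMap K S)) := by
    rw [show algebraMap K S = (algebraMap C S).comp (algebraMap K C) from rfl, CommRingCat.ofHom_comp, Spec.map_comp,
      ← Category.assoc, IsOpenImmersion.isoOfRangeEq_hom_fac]
  haveI : IsFinite (Spec.map (CommRingCat.ofHom (algebraMap K S))) :=
    (IsFinite.SpecMap_iff _).mpr (RingHom.finite_algebraMap.mpr inferInstance)
  refine ⟨Module.finrank K S, ?_, ?_⟩
  · rw [h1, rk_iso, rk_eq_finrank _ (IsLocalRing.closedPoint K)]
    congr 1
    exact (Scheme.Hom.finrank_SpecMap_algebraMap K S _).trans (congrFun (Module.rankAtStalk_eq_finrank_of_free) _)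
  · have hco : IsCoprime (Ideal.span {1 - e}) (J ^ n) := by
      rw [heJ, Ideal.isCoprime_iff_exists]
      exact ⟨1 - e, Ideal.mem_span_singleton_self _, e, Submodule.mem_span_singleton_self _, sub_add_cancel 1 e⟩
    have hinf : Ideal.span {1 - e} ⊓ J ^ n = ⊥ := by
      rw [← Ideal.mul_eq_inf_of_coprime (Ideal.isCoprime_iff_sup_eq.mp hco), heJ,
        show (C ∙ e : Submodule C C) = Ideal.span {e} from rfl, Ideal.span_singleton_mul_span_singleton, sub_mul, one_mul,
        he.eq, sub_self, Ideal.span_singleton_eq_bot]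
    let L : C →ₗ[K] S × C ⧸ J ^ n := ((Ideal.Quotient.mkₐ K _).toLinearMap).prod (Ideal.Quotient.mkₐ K _).toLinearMap
    have hbij : Function.Bijective L := by
      let E := Ideal.quotientInfEquivQuotientProd _ _ hco
      refine ⟨fun a b hab => ?_, fun z => ?_⟩
      · have h2 : Ideal.Quotient.mk (Ideal.span {1 - e} ⊓ J ^ n) a = Ideal.Quotient.mk _ b :=
          E.injective (Prod.ext (congrArg Prod.fst hab) (congrArg Prod.snd hab))
        rw [Ideal.Quotient.eq, hinf, Ideal.mem_bot, sub_eq_zero] at h2
        exact h2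
      · obtain ⟨y, hy⟩ := E.surjective z
        obtain ⟨y, rfl⟩ := Ideal.Quotient.mk_surjective y
        exact ⟨y, hy⟩
    rw [(LinearEquiv.ofBijective L hbij).finrank_eq, Module.finrank_prod]

end Field

/-- Loci of fixed fibre rank. -/
theorem isCompact_rank_eq {R : Type u} [CommRing R] (M N : Type u) [AddCommGroup M] [Module R M] [AddCommGroup N]
    [Module R N] [Module.FinitePresentation R M] [Module.FinitePresentation R N] (a b : ℕ) :
    IsCompact {p : PrimeSpectrum R | Module.finrank p.asIdeal.ResidueField (p.asIdeal.ResidueField ⊗[R] M) = a ∧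
      Module.finrank p.asIdeal.ResidueField (p.asIdeal.ResidueField ⊗[R] N) = b} := by
  have hle : ∀ (L : Type u) [AddCommGroup L] [Module R L] [Module.FinitePresentation R L] (k : ℕ),
      {p : PrimeSpectrum R | Module.finrank p.asIdeal.ResidueField (p.asIdeal.ResidueField ⊗[R] L) ≤ k} =
        (PrimeSpectrum.zeroLocus (Fitt.ideal R L k : Set R))ᶜ := fun L _ _ _ k => by
    ext p
    exact (FittLib.not_le_iff_finrank k p.asIdeal).symm
  have hcpt : ∀ (L : Type u) [AddCommGroup L] [Module R L] [Module.FinitePresentation R L] (k : ℕ),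
      IsCompact {p : PrimeSpectrum R | Module.finrank p.asIdeal.ResidueField (p.asIdeal.ResidueField ⊗[R] L) ≤ k} ∧
      IsOpen {p : PrimeSpectrum R | Module.finrank p.asIdeal.ResidueField (p.asIdeal.ResidueField ⊗[R] L) ≤ k} :=
    fun L _ _ _ k => by
      rw [hle L k]
      exact PrimeSpectrum.isCompact_isOpen_iff_ideal.mpr ⟨_, (Groth.Agent.S6892.result L L k).2.1 ‹_›, rfl⟩
  have h2 := (hcpt M a).1.inter_of_isOpen (hcpt N b).1 (hcpt M a).2 (hcpt N b).2
  let lo : ∀ (L : Type u) [AddCommGroup L] [Module R L], ℕ → Set (PrimeSpectrum R) := fun L _ _ k =>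
    {p | k ≤ Module.finrank p.asIdeal.ResidueField (p.asIdeal.ResidueField ⊗[R] L)}
  have hlo : ∀ (L : Type u) [AddCommGroup L] [Module R L] [Module.FinitePresentation R L] (k : ℕ), IsClosed (lo L k) := by
    intro L _ _ _ k
    rcases k with _ | k
    · simp [lo]
    · rw [← isOpen_compl_iff]
      convert (hcpt L k).2 using 1
      ext p
      simp [lo, Nat.lt_succ_iff]
  convert (h2.inter_right (hlo M a)).inter_right (hlo N b) using 1
  ext p
  simp only [Set.mem_setOf_eq, Set.mem_inter_iff, lo]
  omega

variable {X S : Scheme.{u}} (f : X ⟶ S) [LocallyQuasiFinite f] [LocallyOfFinitePresentation f] [IsSeparated f]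
  [QuasiCompact f] [Flat f]

/-- Degree strata on an affine open are compact. -/
theorem isCompact_fdeg_eq (hf : EtaleSplit.FinFib f) {A : S.Opens} (hA : IsAffineOpen A) (r : ℕ) :
    IsCompact ({s | EtaleSplit.fdeg f s = r} ∩ (A : Set S)) := by
  classical
  let R := Γ(S, A)
  let eY : Spec (CommRingCat.of R) ≅ A.toScheme := hA.isoSpec.symm
  haveI : IsSeparated (f ∣_ A) := inferInstance
  haveI : LocallyQuasiFinite (f ∣_ A) := inferInstance
  obtain ⟨B, _, _, j, J, hB, hBfp, hj, hJ, hrange, hjf⟩ :=
    UnivFinOpen.exists_finite_fp_factor ((f ∣_ A) ≫ eY.inv)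
  have hjf' : j ≫ Spec.map (CommRingCat.ofHom (algebraMap R B)) ≫ eY.hom = f ∣_ A := by
    rw [← Category.assoc, hjf]; simp
  obtain ⟨G, hG⟩ := Module.Finite.exists_fin (R := R) (M := B)
  let n := G + 1
  obtain ⟨t, ht⟩ := hG
  haveI : Module.FinitePresentation R B := Module.FinitePresentation.of_finite_of_finitePresentation R B
  haveI : Algebra.FinitePresentation R (B ⧸ J ^ n) := Algebra.FinitePresentation.quotient (R := R) (Submodule.FG.pow hJ n)
  haveI : Module.FinitePresentation R (B ⧸ J ^ n) := Module.FinitePresentation.of_finite_of_finitePresentation R _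
  let N (p : PrimeSpectrum R) := Module.finrank p.asIdeal.ResidueField (p.asIdeal.ResidueField ⊗[R] B)
  let M (p : PrimeSpectrum R) := Module.finrank p.asIdeal.ResidueField (p.asIdeal.ResidueField ⊗[R] (B ⧸ J ^ n))
  have key : ∀ p : PrimeSpectrum R, EtaleSplit.fdeg f (hA.fromSpec p) + M p = N p ∧ N p ≤ n := by
    intro p
    let K := p.asIdeal.ResidueField
    let C := K ⊗[R] B
    have hN : N p ≤ n := by
      let v : Fin G → C := fun i => 1 ⊗ₜ t i
      have hv : Submodule.span K (Set.range v) = ⊤ := by
        rw [eq_top_iff]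
        intro z hz
        clear hz
        induction z using TensorProduct.induction_on with
        | zero => exact zero_mem _
        | add x y hx hy => exact add_mem hx hy
        | tmul a b =>
          have hb : b ∈ Submodule.span R (Set.range t) := ht ▸ trivial
          induction hb using Submodule.span_induction with
          | mem x hx =>
            obtain ⟨i, rfl⟩ := hx
            rw [show a ⊗ₜ[R] t i = a • v i by rw [TensorProduct.smul_tmul', smul_eq_mul, mul_one]]
            exact Submodule.smul_mem _ a (Submodule.subset_span ⟨i, rfl⟩)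
          | zero => rw [TensorProduct.tmul_zero]; exact zero_mem _
          | add x y _ _ hx hy => rw [TensorProduct.tmul_add]; exact add_mem hx hy
          | smul c x _ hx =>
            rw [TensorProduct.tmul_smul]
            exact Submodule.smul_of_tower_mem _ c hx
      refine (finrank_le_of_span_eq_top hv).trans ?_
      simp [n]
    haveI : Module.Finite K C := inferInstance
    let q : Spec (CommRingCat.of K) ⟶ A.toScheme := Spec.map (CommRingCat.ofHom (algebraMap R K)) ≫ eY.hom
    obtain ⟨m, hmo, -, hm2, hmr⟩ := UnivFinOpen.exists_chartMap (f ∣_ A) eY j hjf' K (IsPullback.of_hasPullback (f ∣_ A) q)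
    haveI := hmo
    let σ : C ≃ₐ[R] B ⊗[R] K := Algebra.TensorProduct.comm R K B
    haveI : IsIso (CommRingCat.ofHom σ.toRingEquiv.toRingHom) := σ.toRingEquiv.toCommRingCatIso.isIso_hom
    let m' := m ≫ Spec.map (CommRingCat.ofHom σ.toRingEquiv.toRingHom)
    have hm' : m' ≫ Spec.map (CommRingCat.ofHom (algebraMap K C)) = pullback.snd (f ∣_ A) q := by
      rw [Category.assoc, ← Spec.map_comp, ← CommRingCat.ofHom_comp, ← hm2]
      congr 3
    have hrange' : Set.range m' = (PrimeSpectrum.zeroLocus
        ((J.map (Algebra.TensorProduct.includeRight : B →ₐ[R] C)) : Set C))ᶜ := by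
      rw [Scheme.Hom.comp_base, TopCat.coe_comp, Set.range_comp, hmr, hrange]
      ext z
      constructor
      · rintro ⟨w, hw, rfl⟩ hle
        refine hw fun x hx => ?_
        have h : σ ((Algebra.TensorProduct.includeRight : B →ₐ[R] C) x) ∈ w.asIdeal :=
          hle (Ideal.mem_map_of_mem (Algebra.TensorProduct.includeRight : B →ₐ[R] C) hx)
        exact h
      · intro hz
        obtain ⟨w, hw⟩ := (Spec.map (CommRingCat.ofHom σ.toRingEquiv.toRingHom)).surjective z
        refine ⟨w, fun hle => hz ?_, hw⟩
        subst hw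
        refine Ideal.map_le_iff_le_comap.mpr fun y hy => ?_
        show σ ((Algebra.TensorProduct.includeRight : B →ₐ[R] C) y) ∈ w.asIdeal
        exact hle hy
    obtain ⟨d, hd, hdd⟩ := rk_compl (K := K) _ n hN (Nat.succ_ne_zero G) m' hrange'
    rw [hm'] at hd
    have h1 := rk_eq_fdeg f hf ((IsPullback.of_hasPullback (f ∣_ A) q).paste_horiz (isPullback_morphismRestrict f A).flip
      )
    have hpt : EtaleSplit.pt (q ≫ A.ι) = hA.fromSpec p := by
      show (q ≫ A.ι) _ = _
      rw [Category.assoc, show eY.hom ≫ A.ι = hA.fromSpec from rfl, Scheme.Hom.comp_apply]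
      congr 1
      refine PrimeSpectrum.ext ?_
      show Ideal.comap (algebraMap R K) (IsLocalRing.maximalIdeal K) = _
      rw [IsLocalRing.maximalIdeal_eq_bot]
      exact p.asIdeal.ker_algebraMap_residueField
    rw [hd, hpt] at h1
    have hM : Module.finrank K (C ⧸ (J.map (Algebra.TensorProduct.includeRight : B →ₐ[R] C)) ^ n) = M p := by
      let φ : C →ₐ[K] K ⊗[R] (B ⧸ J ^ n) := Algebra.TensorProduct.map (AlgHom.id K K) (Ideal.Quotient.mkₐ R (J ^ n))
      have hφ : Function.Surjective φ := by
        intro z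
        exact LinearMap.lTensor_surjective K (g := (Ideal.Quotient.mkₐ R (J ^ n)).toLinearMap) Ideal.Quotient.mk_surjective z
      have hker : RingHom.ker φ = (J.map (Algebra.TensorProduct.includeRight : B →ₐ[R] C)) ^ n := by
        rw [← Ideal.map_pow]
        have h := Algebra.TensorProduct.lTensor_ker (R := R) (A := K) _ (Ideal.Quotient.mkₐ_surjective R (J ^ n))
        rw [show RingHom.ker (Ideal.Quotient.mkₐ R (J ^ n)) = J ^ n from Ideal.Quotient.mkₐ_ker R _] at h
        exact h
      rw [← hker]
      exact (Ideal.quotientKerAlgEquivOfSurjective hφ).toLinearEquiv.finrank_eq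
    refine ⟨?_, hN⟩
    show _ = Module.finrank K C
    rw [← hdd, hM, show EtaleSplit.fdeg f (hA.fromSpec p) = d from (Nat.cast_injective h1).symm]
  have hset : {s | EtaleSplit.fdeg f s = r} ∩ (A : Set S) = hA.fromSpec '' ⋃ b ∈ Finset.range (n + 1),
      {p | N p = r + b ∧ M p = b} := by
    ext s
    constructor
    · rintro ⟨hs, hsA⟩
      obtain ⟨p, rfl⟩ : s ∈ Set.range hA.fromSpec := by rw [hA.range_fromSpec]; exact hsA
      obtain ⟨h1, h2⟩ := key p
      refine ⟨p, Set.mem_biUnion (x := M p) (by simp only [Finset.coe_range, Set.mem_Iio]; omega) ⟨?_, rfl⟩, rfl⟩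
      rw [← hs]; omega
    · rintro ⟨p, hp, rfl⟩
      obtain ⟨b, -, h1, h2⟩ := Set.mem_iUnion₂.mp hp
      refine ⟨?_, hA.range_fromSpec ▸ ⟨p, rfl⟩⟩
      have := (key p).1
      show EtaleSplit.fdeg f (hA.fromSpec p) = r
      omega
  rw [hset]
  exact ((Finset.range (n + 1)).isCompact_biUnion fun b _ => isCompact_rank_eq B (B ⧸ J ^ n) (r + b) b).image hA.fromSpec.continuous

theorem isRetrocompact_fdeg_eq (hf : EtaleSplit.FinFib f) (r : ℕ) : IsRetrocompact {s | EtaleSplit.fdeg f s = r} := by
  intro U hU hUo
  obtain ⟨s, hs, hsfin, hsU⟩ := (Scheme.isBasis_affineOpens S).exists_finite_of_isCompact (U := ⟨U, hUo⟩) hU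
  have : {x | EtaleSplit.fdeg f x = r} ∩ U = ⋃ A ∈ s, {x | EtaleSplit.fdeg f x = r} ∩ (A : Set S) := by
    rw [← Set.inter_iUnion₂]
    congr 1
    have := congrArg (fun O : S.Opens => (O : Set S)) hsU
    simpa [TopologicalSpace.Opens.coe_sSup] using this
  rw [this]
  exact hsfin.isCompact_biUnion fun A hA => isCompact_fdeg_eq f hf (hs hA) r

end Groth.Agent.DegStratField
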