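import Groth.Agent.DegStratField.Rank
import Groth.Agent.EtaleSplit.DegStrat
import Groth.Agent.EtaleSplit.GeomPoint
import Groth.Prelude.Def_Mor2

/-!
# The strata of constant fibre degree
-/

set_option autoImplicit false
set_option linter.style.haveILetI false
set_option maxHeartbeats 1000000
set_option backward.isDefEq.respectTransparency false

universe u

open CategoryTheory Limits AlgebraicGeometry TopologicalSpace Groth.Agent.EtaleSplit

noncomputable section

namespace Groth.Agent.DegStratField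

variable {X S : Scheme.{u}} (f : X ⟶ S)

theorem finite_of_field {K : Type u} [Field K] {P : Scheme.{u}} (p : P ⟶ Spec (CommRingCat.of K))
    [LocallyQuasiFinite p] [LocallyOfFiniteType p] [Finite P] : IsFinite p := by
  haveI := discrete p
  haveI : IsSeparated p := inferInstance
  haveI : CompactSpace P := inferInstance
  haveI : QuasiCompact p := quasiCompact_of_compactSpace p
  haveI : IsAffineHom p := inferInstance
  haveI : IsAffine P := inferInstance
  let ψ := (Scheme.ΓSpecIso (CommRingCat.of K)).inv ≫ p.appTop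
  have hf : p = P.isoSpec.hom ≫ Spec.map ψ := by
    rw [Spec.map_comp, Scheme.isoSpec_hom, ← Scheme.toSpecΓ_naturality_assoc]; simp
  have h1 : Spec.map ψ = P.isoSpec.inv ≫ p := by rw [hf, Iso.inv_hom_id_assoc]
  letI := ψ.hom.toAlgebra
  haveI : LocallyQuasiFinite (Spec.map ψ) := by rw [h1]; infer_instance
  haveI : LocallyOfFiniteType (Spec.map ψ) := by rw [h1]; infer_instance
  haveI : Algebra.FiniteType K Γ(P, ⊤) :=
    RingHom.finiteType_algebraMap.mp ((HasRingHomProperty.Spec_iff (P := @LocallyOfFiniteType)).mp ‹LocallyOfFiniteType (Spec.map ψ)›)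
  haveI : Algebra.QuasiFinite K Γ(P, ⊤) :=
    RingHom.quasiFinite_algebraMap.mp ((HasRingHomProperty.Spec_iff (P := @LocallyQuasiFinite)).mp ‹LocallyQuasiFinite (Spec.map ψ)›)
  haveI : Module.Finite K Γ(P, ⊤) := Module.Finite.of_quasiFinite
  haveI : IsFinite (Spec.map ψ) := (IsFinite.SpecMap_iff _).mpr ‹Module.Finite K Γ(P, ⊤)›
  rw [hf]; infer_instance

variable [LocallyQuasiFinite f] [LocallyOfFiniteType f]

theorem finFib_of_finite (h : ∀ s : S, (f ⁻¹' {s}).Finite) : FinFib f := fun s => by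
  haveI : LocallyQuasiFinite (pullback.snd f (S.fromSpecResidueField s)) := MorphismProperty.pullback_snd _ _ inferInstance
  haveI : LocallyOfFiniteType (pullback.snd f (S.fromSpecResidueField s)) := MorphismProperty.pullback_snd _ _ inferInstance
  haveI : Finite ↥(pullback f (S.fromSpecResidueField s)) := by
    have hr : Set.range (pullback.fst f (S.fromSpecResidueField s)) ⊆ f ⁻¹' {s} := by
      rw [Scheme.Pullback.range_fst, Scheme.range_fromSpecResidueField]
    haveI := (h s).to_subtype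
    exact Finite.of_injective (fun z => (⟨pullback.fst f (S.fromSpecResidueField s) z, hr ⟨z, rfl⟩⟩ : ↥(f ⁻¹' {s})))
      fun a b hab => (pullback.fst f (S.fromSpecResidueField s)).isEmbedding.injective (congrArg Subtype.val hab)
  exact finite_of_field _

/-- Finite fibres, detected by ranks. -/
theorem finite_fibre_of_rk_le (n : ℕ) (s : S)
    (hn : rk (pullback.snd f (S.fromSpecResidueField s)) ≤ (n : Cardinal.{u})) : (f ⁻¹' {s}).Finite := by
  let p := pullback.snd f (S.fromSpecResidueField s)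
  haveI : LocallyQuasiFinite p := MorphismProperty.pullback_snd _ _ inferInstance
  haveI := discrete p
  haveI : Finite ↥(pullback f (S.fromSpecResidueField s)) := by
    by_contra hinf
    rw [not_finite_iff_infinite] at hinf
    obtain ⟨T, hT⟩ := Infinite.exists_subset_card_eq ↥(pullback f (S.fromSpecResidueField s)) (n + 1)
    have h1 := (card_le_rk p T).trans hn
    rw [hT] at h1
    have : n + 1 ≤ n := by exact_mod_cast h1
    omega
  refine (Set.finite_range (pullback.fst f (S.fromSpecResidueField s))).subset fun x hx => ?_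
  rw [Scheme.Pullback.range_fst, Scheme.range_fromSpecResidueField]
  exact hx

/-- The rank along a field valued point. -/
theorem rk_eq_fdeg [Flat f] (hf : FinFib f) {K : Type u} [Field K] {P : Scheme.{u}} {a : P ⟶ X}
    {b : P ⟶ Spec (CommRingCat.of K)} {q : Spec (CommRingCat.of K) ⟶ S} (sq : IsPullback a b f q) :
    rk b = (fdeg f (pt q) : Cardinal.{u}) := by
  obtain ⟨hb, hdeg⟩ := fdeg_of_fieldPoint f hf sq (IsLocalRing.closedPoint K)
  rw [← hdeg]
  exact rk_eq_finrank b _

theorem range_subset_iff {K : Type u} [Field K] (g : Spec (CommRingCat.of K) ⟶ S) (U : Set S) :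
    Set.range g ⊆ U ↔ pt g ∈ U := by
  constructor
  · intro h; exact h ⟨IsLocalRing.closedPoint K, rfl⟩
  · rintro h _ ⟨z, rfl⟩
    exact (congrArg g (Subsingleton.elim z (IsLocalRing.closedPoint K))) ▸ h

/-- The opens of large rank. -/
theorem exists_opens [Flat f] [IsSeparated f] [LocallyOfFinitePresentation f] :
    ∃ U : ℕ → S.Opens, Antitone U ∧ U 0 = ⊤ ∧ ∀ (K : Type u) [Field K] (g : Spec (CommRingCat.of K) ⟶ S) (d : ℕ),
      Set.range g ⊆ (U d : Set S) ↔ (d : Cardinal.{u}) ≤ rk (pullback.snd f g) := by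
  classical
  let ok (V : X.Opens) : Prop := ∀ s : S, ((V.ι ≫ f) ⁻¹' {s}).Finite
  have hff : ∀ V, ok V → FinFib (V.ι ≫ f) := fun V hV => finFib_of_finite (V.ι ≫ f) hV
  have hopen : ∀ d : ℕ, IsOpen {s : S | d = 0 ∨ ∃ V, ok V ∧ d ≤ fdeg (V.ι ≫ f) s} := by
    intro d
    rcases Nat.eq_zero_or_pos d with rfl | hd
    · simp
    have e : {s : S | d = 0 ∨ ∃ V, ok V ∧ d ≤ fdeg (V.ι ≫ f) s} = ⋃ V : {V // ok V}, {s | fdeg (V.1.ι ≫ f) s < d}ᶜ := by
      ext s
      simp [hd.ne', not_lt]
    rw [e]
    exact isOpen_iUnion fun V => (isClosed_fdeg_le _ (hff V.1 V.2) d).isOpen_compl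
  refine ⟨fun d => ⟨_, hopen d⟩, ?_, ?_, ?_⟩
  · rintro a b hab s (h | ⟨V, hV, h⟩)
    · exact Or.inl (by omega)
    · exact Or.inr ⟨V, hV, hab.trans h⟩
  · exact Opens.ext (Set.eq_univ_of_forall fun s => Or.inl rfl)
  intro K _ g d
  rw [range_subset_iff]
  let p := pullback.snd f g
  haveI : LocallyQuasiFinite p := MorphismProperty.pullback_snd _ _ inferInstance
  haveI := discrete p
  have key : ∀ V, ok V → rk ((pullback.fst f g ⁻¹ᵁ V).ι ≫ p) = (fdeg (V.ι ≫ f) (pt g) : Cardinal.{u}) := fun V hV =>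
    rk_eq_fdeg (V.ι ≫ f) (hff V hV)
      ((isPullback_morphismRestrict (pullback.fst f g) V).paste_vert (IsPullback.of_hasPullback f g))
  constructor
  · rintro (h | ⟨V, hV, h⟩)
    · simp [h]
    · refine le_trans ?_ (rk_open_le p (pullback.fst f g ⁻¹ᵁ V))
      rw [key V hV]
      exact_mod_cast h
  · intro h
    rcases Nat.eq_zero_or_pos d with rfl | hd
    · exact Or.inl rfl
    -- finitely many points of the fibre carrying the rank
    obtain ⟨T, hT⟩ : ∃ T : Finset ↥(pullback f g), d ≤ T.card ∨ ∀ z, z ∈ T := by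
      by_cases hfin : Finite ↥(pullback f g)
      · haveI := Fintype.ofFinite ↥(pullback f g); exact ⟨Finset.univ, Or.inr fun z => Finset.mem_univ z⟩
      · rw [not_finite_iff_infinite] at hfin
        obtain ⟨T, hT⟩ := Infinite.exists_subset_card_eq ↥(pullback f g) d
        exact ⟨T, Or.inl hT.ge⟩
    have hW : ∀ x : X, ∃ W : X.Opens, x ∈ W ∧ ok W := fun x => by
      obtain ⟨A, hA, hxA, -⟩ := exists_isAffineOpen_mem_and_subset (X := S) (x := f x) (U := ⊤) trivial
      obtain ⟨W, hW, hxW, hWA⟩ := exists_isAffineOpen_mem_and_subset (X := X) (x := x) (U := f ⁻¹ᵁ A) hxA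
      refine ⟨W, hxW, fun s => ?_⟩
      haveI : IsAffine W.toScheme := hW
      haveI : IsAffine A.toScheme := hA
      let r : W.toScheme ⟶ A.toScheme := IsOpenImmersion.lift A.ι (W.ι ≫ f) (by
        rw [Scheme.Opens.range_ι]; rintro _ ⟨w, rfl⟩; exact hWA w.2)
      have hr : r ≫ A.ι = W.ι ≫ f := IsOpenImmersion.lift_fac _ _ _
      haveI : LocallyQuasiFinite r := by
        haveI : LocallyQuasiFinite (r ≫ A.ι) := by rw [hr]; infer_instance
        exact LocallyQuasiFinite.of_comp r A.ι
      haveI : QuasiCompact r := inferInstance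
      have hpre : (W.ι ≫ f) ⁻¹' {s} = r ⁻¹' (A.ι ⁻¹' {s}) := by
        rw [← hr, Scheme.Hom.comp_base, TopCat.coe_comp, Set.preimage_comp]
      rw [hpre]
      exact r.finite_preimage ((Set.finite_singleton s).preimage A.ι.isOpenEmbedding.injective.injOn)
    choose W hxW hWok using hW
    let V : X.Opens := ⨆ z ∈ T, W (pullback.fst f g z)
    have hV : ok V := fun s => by
      refine Set.Finite.of_finite_image (f := V.ι) ?_ V.ι.isOpenEmbedding.injective.injOn
      refine (T.finite_toSet.biUnion fun z _ => ((hWok (pullback.fst f g z) s).image (W (pullback.fst f g z)).ι)).subset ?_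
      rintro _ ⟨⟨x, hx⟩, hxs, rfl⟩
      obtain ⟨z, hz⟩ := Opens.mem_iSup.mp hx
      obtain ⟨hzT, hz'⟩ := Opens.mem_iSup.mp hz
      exact Set.mem_biUnion hzT ⟨⟨x, hz'⟩, hxs, rfl⟩
    refine Or.inr ⟨V, hV, ?_⟩
    have hmem : ∀ z ∈ T, z ∈ pullback.fst f g ⁻¹ᵁ V := fun z hz =>
      Opens.mem_iSup.mpr ⟨z, Opens.mem_iSup.mpr ⟨hz, hxW _⟩⟩
    rcases hT with hcard | hall
    · haveI : DiscreteTopology (pullback.fst f g ⁻¹ᵁ V).toScheme :=
        (pullback.fst f g ⁻¹ᵁ V).ι.isEmbedding.discreteTopology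
      have h1 := card_le_rk ((pullback.fst f g ⁻¹ᵁ V).ι ≫ p) (T.subtype fun z => z ∈ pullback.fst f g ⁻¹ᵁ V)
      rw [key V hV] at h1
      have h2 : (T.subtype fun z => z ∈ pullback.fst f g ⁻¹ᵁ V).card = T.card := by
        rw [Finset.card_subtype, Finset.filter_true_of_mem hmem]
      rw [h2] at h1
      exact hcard.trans (by exact_mod_cast h1)
    · have htop : pullback.fst f g ⁻¹ᵁ V = ⊤ := top_le_iff.mp fun z _ => hmem z (hall z)
      have h1 : rk ((pullback.fst f g ⁻¹ᵁ V).ι ≫ p) = rk p := by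
        rw [htop]; exact rk_iso p (pullback f g).topIso
      rw [← h1, key V hV] at h
      exact_mod_cast h

/-- The degree function of a morphism with finite fibres. -/
theorem exists_deg [Flat f] [IsSeparated f] [LocallyOfFinitePresentation f] (hf : FinFib f) :
    (∀ r : ℕ, IsClosed {s | fdeg f s ≤ r}) ∧ ∀ (T : Scheme.{u}) (g : T ⟶ S) (r : ℕ),
      Mor2.IsFinLocFreeOfDeg r (pullback.snd f g) ↔ ∀ t : T, fdeg f (g t) = r := by
  refine ⟨fun r => by simpa only [Nat.lt_succ_iff] using isClosed_fdeg_le f hf (r + 1), fun T g r => ?_⟩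
  obtain ⟨hf', hdeg⟩ := finFib_baseChange hf (IsPullback.of_hasPullback f g)
  haveI : LocallyQuasiFinite (pullback.snd f g) := MorphismProperty.pullback_snd _ _ inferInstance
  haveI : LocallyOfFinitePresentation (pullback.snd f g) := MorphismProperty.pullback_snd _ _ inferInstance
  constructor
  · rintro ⟨⟨hfin, hflat, -⟩, hr⟩ t
    rw [← hdeg, fdeg_eq_finrank, hr]
  · intro h
    haveI : IsFinite (pullback.snd f g) := isFinite_of_fdeg_eq _ hf' r fun t => by rw [hdeg, h]
    exact ⟨⟨inferInstance, inferInstance, inferInstance⟩, fun t => by rw [← fdeg_eq_finrank, hdeg, h]⟩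

end Groth.Agent.DegStratField
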