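import Mathlib

/-!
# Ranks of locally quasi-finite schemes over a field
-/

set_option autoImplicit false
set_option linter.style.haveILetI false
set_option maxHeartbeats 1000000
set_option backward.isDefEq.respectTransparency false

universe u

open CategoryTheory Limits AlgebraicGeometry Opposite TopologicalSpace

noncomputable section

namespace Groth.Agent.DegStratField

variable {K : Type u} [Field K] {P : Scheme.{u}} (p : P ⟶ Spec (CommRingCat.of K))

/-- The rank of the global functions. -/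
def rk : Cardinal.{u} :=
  letI := ((Scheme.ΓSpecIso (CommRingCat.of K)).inv ≫ p.appTop).hom.toAlgebra
  Module.rank K (Γ(P, ⊤) : Type u)

theorem discrete [LocallyQuasiFinite p] : DiscreteTopology P := by
  haveI : IsLocallyArtinian P := IsLocallyArtinian.of_locallyQuasiFinite p
  infer_instance

/-- Isomorphic schemes have equal ranks. -/
theorem rk_iso {Q : Scheme.{u}} (e : Q ≅ P) : rk (e.hom ≫ p) = rk p := by
  letI a₁ := ((Scheme.ΓSpecIso (CommRingCat.of K)).inv ≫ p.appTop).hom.toAlgebra
  letI a₂ := ((Scheme.ΓSpecIso (CommRingCat.of K)).inv ≫ (e.hom ≫ p).appTop).hom.toAlgebra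
  let E : Γ(P, ⊤) ≃+* Γ(Q, ⊤) := (asIso e.hom.appTop).commRingCatIsoToRingEquiv
  let L : Γ(P, ⊤) ≃ₗ[K] Γ(Q, ⊤) :=
    { E.toAddEquiv with
      map_smul' := fun c x => by
        show E (c • x) = _
        rw [Algebra.smul_def, map_mul]
        simp only [RingHom.id_apply, Algebra.smul_def, RingHom.algebraMap_toAlgebra, Scheme.Hom.comp_appTop]
        rfl }
  exact L.rank_eq.symm

/-- The rank of a finite scheme is its degree. -/
theorem rk_eq_finrank [IsFinite p] (s : Spec (CommRingCat.of K)) : rk p = (p.finrank s : Cardinal.{u}) := by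
  haveI : IsAffine P := isAffine_of_isAffineHom p
  let ψ := (Scheme.ΓSpecIso (CommRingCat.of K)).inv ≫ p.appTop
  letI := ψ.hom.toAlgebra
  have hf : p = P.isoSpec.hom ≫ Spec.map ψ := by
    rw [Spec.map_comp, Scheme.isoSpec_hom, ← Scheme.toSpecΓ_naturality_assoc]
    simp
  haveI : IsFinite (Spec.map ψ) := by
    rw [show Spec.map ψ = P.isoSpec.inv ≫ p by rw [hf, Iso.inv_hom_id_assoc]]; infer_instance
  haveI : Module.Finite K Γ(P, ⊤) := (IsFinite.SpecMap_iff _).mp ‹IsFinite (Spec.map ψ)›
  show Module.rank K Γ(P, ⊤) = _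
  rw [← Module.finrank_eq_rank K Γ(P, ⊤)]
  congr 1
  rw [hf, Scheme.Hom.finrank_comp_left_of_isIso]
  have := Scheme.Hom.finrank_SpecMap_algebraMap K Γ(P, ⊤) s
  rw [RingHom.algebraMap_toAlgebra] at this
  exact ((congrFun (Module.rankAtStalk_eq_finrank_of_free) s).symm.trans this.symm)

variable [DiscreteTopology P]

/-- Extension by zero from an open subset. -/
theorem exists_extend (V : P.Opens) (a : Γ(P, V)) :
    ∃ b : Γ(P, ⊤), P.presheaf.map (homOfLE le_top).op b = a ∧
      ∀ W : P.Opens, Disjoint (W : Set P) V → P.presheaf.map (homOfLE (le_top : W ≤ ⊤)).op b = 0 := by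
  let W₀ : P.Opens := ⟨(V : Set P)ᶜ, isOpen_discrete _⟩
  let U : Bool → P.Opens := fun i => bif i then V else W₀
  let sf : ∀ i, Γ(P, U i) := fun i => match i with
    | true => a
    | false => 0
  have hbot : V ⊓ W₀ = ⊥ := by ext z; simp [W₀]
  have hcomp : TopCat.Presheaf.IsCompatible P.presheaf U sf := by
    haveI : Subsingleton Γ(P, V ⊓ W₀) := by rw [hbot]; infer_instance
    haveI : Subsingleton Γ(P, W₀ ⊓ V) := by rw [inf_comm, hbot]; infer_instance
    rintro (_ | _) (_ | _)
    · rfl
    · exact Subsingleton.elim (α := Γ(P, W₀ ⊓ V)) _ _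
    · exact Subsingleton.elim (α := Γ(P, V ⊓ W₀)) _ _
    · rfl
  obtain ⟨b, hb, -⟩ := P.sheaf.existsUnique_gluing' U ⊤ (fun i => homOfLE le_top) (fun z _ => by
    by_cases hz : z ∈ V
    · exact Opens.mem_iSup.mpr ⟨true, hz⟩
    · exact Opens.mem_iSup.mpr ⟨false, hz⟩) sf hcomp
  refine ⟨b, hb true, fun W hW => ?_⟩
  have hle : W ≤ W₀ := fun z hz hzV => Set.disjoint_left.mp hW hz hzV
  have h1 : P.presheaf.map (homOfLE le_top).op b = (0 : Γ(P, W₀)) := hb false
  rw [show (homOfLE (le_top : W ≤ ⊤)).op = (homOfLE (le_top : W₀ ≤ ⊤)).op ≫ (homOfLE hle).op from rfl,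
    Functor.map_comp, CommRingCat.comp_apply, h1, map_zero]

/-- An open part has smaller rank. -/
theorem rk_open_le (V : P.Opens) : rk (V.ι ≫ p) ≤ rk p := by
  letI a₁ := ((Scheme.ΓSpecIso (CommRingCat.of K)).inv ≫ p.appTop).hom.toAlgebra
  letI a₂ := ((Scheme.ΓSpecIso (CommRingCat.of K)).inv ≫ (V.ι ≫ p).appTop).hom.toAlgebra
  let L : Γ(P, ⊤) →ₗ[K] Γ(V.toScheme, ⊤) :=
    { V.ι.appTop.hom.toAddMonoidHom with
      map_smul' := fun c x => by
        show V.ι.appTop (c • x) = _
        rw [Algebra.smul_def, map_mul]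
        simp only [RingHom.id_apply, Algebra.smul_def, RingHom.algebraMap_toAlgebra, Scheme.Hom.comp_appTop]
        rfl }
  refine LinearMap.rank_le_of_surjective L fun a => ?_
  obtain ⟨b, hb, -⟩ := exists_extend V (V.topIso.hom a)
  refine ⟨b, V.topIso.commRingCatIsoToRingEquiv.injective ?_⟩
  show V.topIso.hom (V.ι.appTop b) = V.topIso.hom a
  rw [← hb]
  simp only [Scheme.Opens.topIso_hom, Scheme.Opens.ι_appTop, ← CommRingCat.comp_apply, ← Functor.map_comp]
  rfl

/-- The rank is at least the number of points. -/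
theorem card_le_rk (T : Finset P) : (T.card : Cardinal.{u}) ≤ rk p := by
  classical
  letI := ((Scheme.ΓSpecIso (CommRingCat.of K)).inv ≫ p.appTop).hom.toAlgebra
  let O : P → P.Opens := fun x => ⟨{x}, isOpen_discrete _⟩
  choose e he he0 using fun x => exists_extend (O x) 1
  have hli : LinearIndependent K fun x : T => e x.1 := by
    rw [Fintype.linearIndependent_iff]
    intro g hg i
    have h1 := congrArg (P.presheaf.map (homOfLE (le_top : O i.1 ≤ ⊤)).op).hom hg
    rw [map_sum, map_zero, Finset.sum_eq_single i] at h1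
    · rw [Algebra.smul_def, map_mul, he, mul_one] at h1
      by_contra hne
      have h2 := ((isUnit_iff_ne_zero.mpr hne).map (algebraMap K Γ(P, ⊤))).map (P.presheaf.map (homOfLE (le_top : O i.1 ≤ ⊤)).op).hom
      rw [h1] at h2
      haveI : Nonempty (O i.1) := ⟨⟨i.1, rfl⟩⟩
      exact not_isUnit_zero h2
    · intro j _ hj
      rw [Algebra.smul_def, map_mul, he0 j.1 (O i.1) (Set.disjoint_singleton.mpr fun h => hj (Subtype.ext h.symm)), mul_zero]
    · intro h; exact absurd (Finset.mem_univ i) h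
  calc (T.card : Cardinal.{u}) = Cardinal.mk T := by rw [Cardinal.mk_fintype, Fintype.card_coe]
    _ ≤ rk p := hli.cardinal_le_rank

end Groth.Agent.DegStratField
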